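import Groth.Agent.AcycCompLib.Criterion
import Groth.Agent.EtClosedPts.Generic
import Groth.Agent.SmoothBCLib.UnivHomeoBC
import Groth.Agent.CdFieldLib.Basic
import Groth.Agent.S3054
import Groth.Agent.EtPtsLib.IntegralBCIso

/-!
# Cohomology along an integral surjection which is an isomorphism at the generic point of a curve
-/

set_option autoImplicit false
set_option linter.style.haveILetI false
set_option linter.unusedSectionVars false
set_option backward.isDefEq.respectTransparency false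
set_option backward.isDefEq.respectTransparency.types false
set_option maxHeartbeats 1000000

universe u

open CategoryTheory CategoryTheory.Limits AlgebraicGeometry Opposite CategoryTheory.Abelian
open Groth.Agent.EtPtsLib

attribute [local instance] Groth.Agent.S0101.result

noncomputable section

namespace Groth.Agent.NormCohLib

variable {X Y : Scheme.{u}} (ν : Y ⟶ X) [IsIntegralHom ν]

theorem isIso_pull_unit (U : X.Opens) [IsIso (ν ∣_ U)] (F : EtCoh.Ab X) :
    IsIso ((EtCoh.pull U.ι).map ((EtCoh.pullPushAdj ν).unit.app F)) := by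
  have h := isPullback_morphismRestrict ν U
  haveI := EtPtsLib.isIso_baseChange0 ν U.ι (ν ∣_ U) (ν ⁻¹ᵁ U).ι h.flip ((EtCoh.pull ν).obj F)
  haveI : IsIntegralHom (ν ∣_ U) := inferInstance
  haveI : Surjective (ν ∣_ U) := inferInstance
  haveI : UniversallyInjective (ν ∣_ U) := inferInstance
  haveI := SmoothBCLib.isIso_unit_univHomeo (ν ∣_ U) ((EtCoh.pull U.ι).obj F)
  obtain ⟨σ, hσ⟩ := AcycCompLib.exists_pull_unit_baseChange0 ν U.ι (ν ∣_ U) (ν ⁻¹ᵁ U).ι h.flip.w F
  haveI : IsIso ((EtCoh.pull U.ι).map ((EtCoh.pullPushAdj ν).unit.app F) ≫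
      EtCoh.baseChange0 ν U.ι (ν ∣_ U) (ν ⁻¹ᵁ U).ι h.flip.w ((EtCoh.pull ν).obj F)) := by
    rw [hσ]; infer_instance
  exact IsIso.of_isIso_comp_right ((EtCoh.pull U.ι).map ((EtCoh.pullPushAdj ν).unit.app F))
    (EtCoh.baseChange0 ν U.ι (ν ∣_ U) (ν ⁻¹ᵁ U).ι h.flip.w ((EtCoh.pull ν).obj F))

theorem isIso_stalk_unit_of_mem (U : X.Opens) [IsIso (ν ∣_ U)] (F : EtCoh.Ab X) {Ω : Type u} [Field Ω] [IsSepClosed Ω]
    (ξ : Spec (CommRingCat.of Ω) ⟶ X) (h : ξ default ∈ U) :
    IsIso ((EtCoh.stalk ξ).map ((EtCoh.pullPushAdj ν).unit.app F)) := by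
  obtain ⟨θ, rfl⟩ := EtPtsLib.exists_comp_eq U.ι ξ (by rw [Scheme.Opens.range_ι]; exact h)
  haveI := isIso_pull_unit ν U F
  exact (NatIso.isIso_map_iff (pullStalkIso U.ι θ AddCommGrpCat.{u + 1}) _).1
    (inferInstanceAs (IsIso ((EtCoh.stalk θ).map ((EtCoh.pull U.ι).map ((EtCoh.pullPushAdj ν).unit.app F)))))

/-- On an integral curve the pull back along `ν` is bijective in degrees at least two. -/
theorem bijective_Hpull [IsIntegral X] [PreservesFiniteLimits (EtCoh.pull ν)] {k : Type u} [Field k] [IsSepClosed k]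
    (f : X ⟶ Spec (CommRingCat.of k)) [LocallyOfFiniteType f] [QuasiCompact f]
    (hdim : topologicalKrullDim X ≤ 1) (U : X.Opens) (hU : genericPoint X ∈ U) [IsIso (ν ∣_ U)]
    (F : EtCoh.Ab X) (q : ℕ) (hq : 2 ≤ q) : Function.Bijective (EtCore.Hpull ν F q) := by
  have hgen : ∀ (Ω : Type u) [Field Ω] [IsSepClosed Ω] (ξ : Spec (CommRingCat.of Ω) ⟶ X),
      (∀ x ∈ Set.range ξ.base, ∀ y : X, y ⤳ x → y = x) →
        IsIso ((EtCoh.stalk ξ).map ((EtCoh.pullPushAdj ν).unit.app F)) := fun Ω _ _ ξ h => by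
    refine isIso_stalk_unit_of_mem ν U F ξ ?_
    rw [← h (ξ default) ⟨default, rfl⟩ (genericPoint X) (genericPoint_specializes _)]
    exact hU
  have hb := EtClosedPts.bijective_map_of_maximal f hdim ((EtCoh.pullPushAdj ν).unit.app F) hgen q (Or.inl hq)
  have e : ⇑(EtCore.Hpull ν F q) = ⇑(EtLim.HofPush ν ((EtCoh.pull ν).obj F) q) ∘
      fun e : EtCoh.H X F q => Sheaf.H.map ((EtCoh.pullPushAdj ν).unit.app F) q e :=
    funext fun x => AcycCompLib.Hpull_eq_HofPush_unit ν q F x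
  rw [e]
  exact ((AcycCompLib.bijective_HofPush ν _ q q fun p hp _ => Groth.Agent.S3054.result ν _ p hp).1 le_rfl).comp hb

end Groth.Agent.NormCohLib
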